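import Groth.Agent.Proj16.Map
import Mathlib.RingTheory.IsTensorProduct
import Mathlib.Algebra.Category.Ring.Constructions

/-!
# Base change of `Proj`
-/

noncomputable section

universe u

set_option backward.isDefEq.respectTransparency false
set_option backward.isDefEq.respectTransparency.types false

open CategoryTheory CategoryTheory.Limits AlgebraicGeometry HomogeneousLocalization DirectSum
open scoped TensorProduct

namespace Groth.Agent.Proj16.BaseChange

variable {R R' A B : Type u} [CommRing R'] [CommRing R] [Algebra R' R] [CommRing B] [Algebra R' B]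
variable {ℬ : ℕ → Submodule R' B} [GradedAlgebra ℬ] [CommRing A] [Algebra R A]
variable {𝒜 : ℕ → Submodule R A} [GradedAlgebra 𝒜]

/-- The structure map to a chart. -/
def str {C : Type u} [CommRing C] [Algebra R' C] (𝒞 : ℕ → Submodule R' C) [GradedAlgebra 𝒞] (s : C) :
    R' →+* Away 𝒞 s := (fromZeroRingHom 𝒞 _).comp (algebraMap R' (𝒞 0))

theorem val_str {C : Type u} [CommRing C] [Algebra R' C] (𝒞 : ℕ → Submodule R' C) [GradedAlgebra 𝒞] (s : C)
    (r : R') : (str 𝒞 s r).val = algebraMap C (Localization.Away s) (algebraMap R' C r) := by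
  show HomogeneousLocalization.val (HomogeneousLocalization.mk _) = _
  rw [HomogeneousLocalization.val_mk, Localization.mk_eq_mk', ← IsLocalization.mk'_one (M := Submonoid.powers s)]
  rfl

variable [Algebra R' A] [IsScalarTower R' R A] [Algebra B A] [IsScalarTower R' B A] [Algebra.IsPushout R' R B A]
variable (φ : ℬ →+*ᵍ 𝒜) (hφA : ∀ b : B, φ b = algebraMap B A b)

theorem str_comp (hφA : ∀ b : B, φ b = algebraMap B A b) (s : B) (r : R') :
    Away.map φ s (str ℬ s r) = str 𝒜 (φ s) (algebraMap R' R r) := by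
  apply HomogeneousLocalization.val_injective
  rw [val_str]
  show HomogeneousLocalization.val (HomogeneousLocalization.map _ _ (HomogeneousLocalization.mk _)) = _
  rw [HomogeneousLocalization.map_mk, HomogeneousLocalization.val_mk, Localization.mk_eq_mk',
    ← IsLocalization.mk'_one (M := Submonoid.powers (φ s))]
  congr 1
  · show φ (algebraMap R' B r) = algebraMap R A (algebraMap R' R r)
    rw [hφA, ← IsScalarTower.algebraMap_apply R' B A, ← IsScalarTower.algebraMap_apply R' R A]
  · exact Subtype.ext (map_one φ)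

theorem bijective_chart (hφA : ∀ b : B, φ b = algebraMap B A b) {d : ℕ} (hd : 0 < d) {s : B} (hs : s ∈ ℬ d) :
    letI : Algebra R' (Away ℬ s) := (str ℬ s).toAlgebra
    letI : Algebra R' (Away 𝒜 (φ s)) := ((str 𝒜 (φ s)).comp (algebraMap R' R)).toAlgebra
    ∃ L : R ⊗[R'] Away ℬ s →ₐ[R'] Away 𝒜 (φ s), Function.Bijective L ∧
      (∀ r, L (r ⊗ₜ 1) = str 𝒜 (φ s) r) ∧ ∀ c, L (1 ⊗ₜ c) = Away.map φ s c := by
  classical
  letI : Algebra R' (Away ℬ s) := (str ℬ s).toAlgebra
  letI : Algebra R' (Away 𝒜 (φ s)) := ((str 𝒜 (φ s)).comp (algebraMap R' R)).toAlgebra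
  let f₁ : R →ₐ[R'] Away 𝒜 (φ s) := { str 𝒜 (φ s) with commutes' := fun _ => rfl }
  let f₂ : Away ℬ s →ₐ[R'] Away 𝒜 (φ s) := { Away.map φ s with commutes' := str_comp φ hφA s }
  let L := Algebra.TensorProduct.lift f₁ f₂ fun _ _ => Commute.all _ _
  have hL : ∀ r c, L (r ⊗ₜ c) = str 𝒜 (φ s) r * Away.map φ s c := fun r c => rfl
  refine ⟨L, ?_, fun r => by rw [hL, map_one, mul_one], fun c => by rw [hL, map_one, one_mul]⟩
  have hT : IsBaseChange R (IsScalarTower.toAlgHom R' B A).toLinearMap := Algebra.IsPushout.out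
  let Φ : R ⊗[R'] B ≃ₗ[R] A := hT.equiv
  have hΦ : ∀ (r : R) (b : B), Φ (r ⊗ₜ b) = algebraMap R A r * φ b := fun r b => by
    rw [hφA, IsBaseChange.equiv_tmul, Algebra.smul_def]
    rfl
  let P : ℕ → (B →ₗ[R'] B) := fun n => (ℬ n).subtype ∘ₗ (DirectSum.component R' ℕ (fun i => ℬ i) n) ∘ₗ
    (DirectSum.decomposeLinearEquiv ℬ).toLinearMap
  have hPmem : ∀ n b, P n b ∈ ℬ n := fun n b => (DirectSum.component R' ℕ (fun i => ℬ i) n _).2
  have hP : ∀ n b, b ∈ ℬ n → P n b = b := fun n b hb => DirectSum.decompose_of_mem_same ℬ hb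
  let η : ℕ → (B →ₗ[R'] Away ℬ s) := fun n =>
    { toFun := fun b => Away.mk ℬ hs n (P (n * d) b) (by rw [smul_eq_mul]; exact hPmem _ b)
      map_add' := fun a b => by
        apply HomogeneousLocalization.val_injective
        rw [HomogeneousLocalization.val_add, Away.val_mk, Away.val_mk, Away.val_mk, map_add, Localization.add_mk_self]
      map_smul' := fun r b => by
        apply HomogeneousLocalization.val_injective
        rw [RingHom.id_apply, Algebra.smul_def (A := Away ℬ s) r, HomogeneousLocalization.val_mul,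
          show (algebraMap R' (Away ℬ s) r).val = _ from val_str ℬ s r, Away.val_mk, Away.val_mk, map_smul,
          Algebra.smul_def, ← Localization.mk_one_eq_algebraMap, Localization.mk_mul, one_mul] }
  have hη : ∀ n b (hb : b ∈ ℬ (n • d)), η n b = Away.mk ℬ hs n b hb := fun n b hb => by
    apply HomogeneousLocalization.val_injective
    show (Away.mk ℬ hs n (P (n * d) b) _).val = _
    rw [Away.val_mk, Away.val_mk, hP _ b (by rwa [← smul_eq_mul])]
  let ξ : ℕ → (R ⊗[R'] B →ₗ[R] R ⊗[R'] Away ℬ s) := fun n => (η n).baseChange R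
  -- changing the exponent
  have hshift : ∀ n m b, b ∈ ℬ (n * d) → η (m + n) (s ^ m * b) = η n b := by
    intro n m b hb
    have hb' : s ^ m * b ∈ ℬ ((m + n) • d) := by
      rw [smul_eq_mul, add_mul]
      exact SetLike.mul_mem_graded (by rw [← smul_eq_mul]; exact SetLike.pow_mem_graded m hs) hb
    rw [hη _ _ hb', hη n b (by rwa [smul_eq_mul])]
    apply HomogeneousLocalization.val_injective
    rw [Away.val_mk, Away.val_mk, Localization.mk_eq_mk_iff, Localization.r_iff_exists]
    exact ⟨1, by simp [pow_add]; ring⟩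
  -- every tensor is a fraction
  have hfrac : ∀ x : R ⊗[R'] Away ℬ s, ∃ (n : ℕ) (y : R ⊗[R'] B),
      y = (P (n * d)).baseChange R y ∧ x = ξ n y := by
    intro x
    induction x using TensorProduct.induction_on with
    | zero => exact ⟨0, 0, (map_zero _).symm, (map_zero _).symm⟩
    | tmul r c =>
      obtain ⟨n, b, hb, rfl⟩ := Away.mk_surjective ℬ hs c
      refine ⟨n, r ⊗ₜ b, ?_, ?_⟩
      · rw [LinearMap.baseChange_tmul, hP _ b (by rwa [← smul_eq_mul])]
      · rw [LinearMap.baseChange_tmul, hη]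
    | add x x' hx hx' =>
      obtain ⟨n, y, hy, rfl⟩ := hx
      obtain ⟨n', y', hy', rfl⟩ := hx'
      let M : ℕ → (R ⊗[R'] B →ₗ[R] R ⊗[R'] B) := fun k => (LinearMap.mulLeft R' (s ^ k)).baseChange R
      have hM : ∀ (n m : ℕ) (z : R ⊗[R'] B), M m ((P (n * d)).baseChange R z) =
          (P ((m + n) * d)).baseChange R (M m ((P (n * d)).baseChange R z)) ∧
          ξ (m + n) (M m ((P (n * d)).baseChange R z)) = ξ n ((P (n * d)).baseChange R z) := by
        intro n m z
        induction z using TensorProduct.induction_on with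
        | zero => simp
        | tmul r b =>
          simp only [M, ξ, LinearMap.baseChange_tmul, LinearMap.mulLeft_apply]
          refine ⟨?_, by rw [hshift n m _ (hPmem _ b)]⟩
          rw [hP ((m + n) * d)]
          rw [add_mul]
          exact SetLike.mul_mem_graded (by rw [← smul_eq_mul]; exact SetLike.pow_mem_graded m hs) (hPmem _ b)
        | add z z' h h' =>
          simp only [map_add]
          exact ⟨congrArg₂ (· + ·) h.1 h'.1, congrArg₂ (· + ·) h.2 h'.2⟩
      obtain ⟨e1, e2⟩ := hM n n' y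
      obtain ⟨e1', e2'⟩ := hM n' n y'
      rw [← hy] at e1 e2
      rw [← hy', add_comm n n'] at e1' e2'
      exact ⟨n' + n, M n' y + M n y', by rw [map_add, ← e1, ← e1'], by rw [map_add, e2, e2']⟩
  have hval : ∀ (n : ℕ) (y : R ⊗[R'] B),
      (L (ξ n ((P (n * d)).baseChange R y))).val =
        algebraMap A (Localization.Away (φ s)) (Φ ((P (n * d)).baseChange R y)) *
          Localization.mk 1 (⟨φ s ^ n, n, rfl⟩ : Submonoid.powers (φ s)) := by
    intro n y
    induction y using TensorProduct.induction_on with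
    | zero => simp
    | tmul r b =>
      simp only [ξ, LinearMap.baseChange_tmul]
      rw [hη n _ (by rw [smul_eq_mul]; exact hPmem _ b), hL, HomogeneousLocalization.val_mul, val_str,
        Away.map_mk, Away.val_mk, hΦ, map_mul, mul_assoc]
      congr 1
      rw [← Localization.mk_one_eq_algebraMap, Localization.mk_mul, mul_one, one_mul]
    | add y y' h h' => simp only [map_add, HomogeneousLocalization.val_add, h, h', add_mul]
  refine ⟨(injective_iff_map_eq_zero L).2 fun x hx => ?_, fun w => ?_⟩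
  · obtain ⟨n, y, hy, rfl⟩ := hfrac x
    have h1 := hval n y
    rw [← hy, hx, HomogeneousLocalization.val_zero, ← Localization.mk_one_eq_algebraMap, Localization.mk_mul,
      mul_one, one_mul, eq_comm, Localization.mk_eq_mk'] at h1
    obtain ⟨⟨_, m, rfl⟩, hm⟩ := (IsLocalization.mk'_eq_zero_iff _ _).1 h1
    change φ s ^ m * Φ y = 0 at hm
    have hM : (LinearMap.mulLeft R' (s ^ m)).baseChange R y = 0 := by
      apply Φ.injective
      rw [map_zero, ← hm]
      clear h1 hm hx hy
      induction y using TensorProduct.induction_on with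
      | zero => simp
      | tmul r b => rw [LinearMap.baseChange_tmul, LinearMap.mulLeft_apply, hΦ, hΦ, map_mul, map_pow]; ring
      | add y y' h h' => simp only [map_add, h, h', mul_add]
    have h2 : ξ (m + n) ((LinearMap.mulLeft R' (s ^ m)).baseChange R ((P (n * d)).baseChange R y)) =
        ξ n ((P (n * d)).baseChange R y) := by
      clear h1 hm hM hx hy
      induction y using TensorProduct.induction_on with
      | zero => simp
      | tmul r b => simp only [ξ, LinearMap.baseChange_tmul, LinearMap.mulLeft_apply, hshift n m _ (hPmem _ b)]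
      | add y y' h h' => simp only [map_add, h, h']
    rw [← hy, hM, map_zero] at h2
    exact h2.symm
  · obtain ⟨n, a, ha, rfl⟩ := Away.mk_surjective 𝒜 (φ.2 hs) w
    refine ⟨ξ n ((P (n * d)).baseChange R (Φ.symm a)), ?_⟩
    apply HomogeneousLocalization.val_injective
    rw [hval n (Φ.symm a), Away.val_mk, ← Localization.mk_one_eq_algebraMap, Localization.mk_mul, mul_one, one_mul]
    congr 1
    have key : ∀ z : R ⊗[R'] B, Φ ((P (n * d)).baseChange R z) = GradedRing.proj 𝒜 (n * d) (Φ z) := by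
      intro z
      induction z using TensorProduct.induction_on with
      | zero => simp
      | tmul r b =>
        rw [LinearMap.baseChange_tmul, hΦ, hΦ]
        show algebraMap R A r * φ (GradedRing.proj ℬ (n * d) b) = _
        rw [proj_map_commutes, GradedRing.proj_apply, GradedRing.proj_apply, ← Algebra.smul_def, ← Algebra.smul_def,
          DirectSum.decompose_smul]
        rfl
      | add z z' h h' => simp only [map_add, h, h']
    rw [key, LinearEquiv.apply_symm_apply, proj_of_mem 𝒜 (by rwa [← smul_eq_mul])]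

/-- The chart squares are cartesian. -/
theorem isPullback_chart (hφA : ∀ b : B, φ b = algebraMap B A b) {d : ℕ} (hd : 0 < d) {s : B} (hs : s ∈ ℬ d) :
    IsPullback (Spec.map (CommRingCat.ofHom (Away.map φ s))) (Spec.map (CommRingCat.ofHom (str 𝒜 (φ s))))
      (Spec.map (CommRingCat.ofHom (str ℬ s))) (Spec.map (CommRingCat.ofHom (algebraMap R' R))) := by
  letI : Algebra R' (Away ℬ s) := (str ℬ s).toAlgebra
  letI : Algebra R' (Away 𝒜 (φ s)) := ((str 𝒜 (φ s)).comp (algebraMap R' R)).toAlgebra
  obtain ⟨L, hL, hL1, hL2⟩ := bijective_chart φ hφA hd hs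
  refine isPullback_SpecMap_of_isPushout _ _ _ _ (IsPushout.flip ?_)
  refine IsPushout.of_iso (CommRingCat.isPushout_tensorProduct R' R (Away ℬ s)) (Iso.refl _) (Iso.refl _)
    (Iso.refl _) (RingEquiv.ofBijective L hL).toCommRingCatIso ?_ ?_ ?_ ?_
  · simp
  · exact CommRingCat.hom_ext (RingHom.ext fun x => rfl)
  · exact CommRingCat.hom_ext (RingHom.ext fun x => hL1 x)
  · exact CommRingCat.hom_ext (RingHom.ext fun x => hL2 x)

/-- Base change of `Proj`. -/
theorem isPullback_map (hφA : ∀ b : B, φ b = algebraMap B A b)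
    (hφ : HomogeneousIdeal.irrelevant 𝒜 ≤ (HomogeneousIdeal.irrelevant ℬ).map φ) :
    IsPullback (Proj.map φ hφ) (Proj.toSpecZero 𝒜 ≫ Spec.map (CommRingCat.ofHom (algebraMap R (𝒜 0))))
      (Proj.toSpecZero ℬ ≫ Spec.map (CommRingCat.ofHom (algebraMap R' (ℬ 0))))
      (Spec.map (CommRingCat.ofHom (algebraMap R' R))) := by
  have hstr : ∀ {d : ℕ} {s : B} (hd : 0 < d) (hs : s ∈ ℬ d), Proj.awayι ℬ s hs hd ≫
      Proj.toSpecZero ℬ ≫ Spec.map (CommRingCat.ofHom (algebraMap R' (ℬ 0))) =
      Spec.map (CommRingCat.ofHom (str ℬ s)) := fun hd hs => by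
    rw [Proj.awayι_toSpecZero_assoc, ← Spec.map_comp]; rfl
  have hstr' : ∀ {d : ℕ} {s : A} (hd : 0 < d) (hs : s ∈ 𝒜 d), Proj.awayι 𝒜 s hs hd ≫
      Proj.toSpecZero 𝒜 ≫ Spec.map (CommRingCat.ofHom (algebraMap R (𝒜 0))) =
      Spec.map (CommRingCat.ofHom (str 𝒜 s)) := fun hd hs => by
    rw [Proj.awayι_toSpecZero_assoc, ← Spec.map_comp]; rfl
  have w : Proj.map φ hφ ≫ Proj.toSpecZero ℬ ≫ Spec.map (CommRingCat.ofHom (algebraMap R' (ℬ 0))) =
      (Proj.toSpecZero 𝒜 ≫ Spec.map (CommRingCat.ofHom (algebraMap R (𝒜 0)))) ≫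
        Spec.map (CommRingCat.ofHom (algebraMap R' R)) := by
    refine (Proj.mapAffineOpenCover φ hφ).openCover.hom_ext _ _ fun i => ?_
    obtain ⟨⟨d, hd⟩, ⟨t, ht⟩⟩ := i
    show Proj.awayι 𝒜 (φ t) (φ.2 ht) hd ≫ _ = Proj.awayι 𝒜 (φ t) (φ.2 ht) hd ≫ _
    rw [Proj.awayι_comp_map_assoc φ hφ hd _ ht, hstr hd ht, ← Category.assoc (Proj.awayι 𝒜 _ _ _),
      hstr' (s := φ t) hd (φ.2 ht)]
    exact (isPullback_chart φ hφA hd ht).w
  let L := pullback.lift (Proj.map φ hφ) _ w
  haveI : IsIso L := by
    refine IsZariskiLocalAtTarget.of_openCover (P := MorphismProperty.isomorphisms Scheme.{u})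
      ((Proj.affineOpenCover ℬ).openCover.pullback₁ (pullback.fst _ _)) fun i => ?_
    obtain ⟨⟨d, hd⟩, ⟨t, ht⟩⟩ := i
    have sqMap : IsPullback (Proj.awayι 𝒜 (φ t) (φ.2 ht) hd)
        (Spec.map (CommRingCat.ofHom (Away.map φ t))) (Proj.map φ hφ) (Proj.awayι ℬ t ht hd) := by
      refine (IsOpenImmersion.isPullback _ _ _ _ (Proj.awayι_comp_map φ hφ hd _ ht) ?_).flip
      rw [Proj.opensRange_awayι, Proj.opensRange_awayι, Proj.map_preimage_basicOpen]
    show MorphismProperty.isomorphisms Scheme.{u}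
      (pullback.snd L (pullback.fst (pullback.fst _ _) (Proj.awayι ℬ t ht hd)))
    set ι := Proj.awayι ℬ t ht hd with hι
    set p₁ := pullback.fst (Proj.toSpecZero ℬ ≫ Spec.map (CommRingCat.ofHom (algebraMap R' (ℬ 0))))
      (Spec.map (CommRingCat.ofHom (algebraMap R' R)))
    let ℓ := pullback.lift (Proj.awayι 𝒜 (φ t) (φ.2 ht) hd ≫ L)
      (Spec.map (CommRingCat.ofHom (Away.map φ t))) (f := p₁) (g := ι) (by
        rw [Category.assoc, pullback.lift_fst]; exact sqMap.w)
    have sqℓ : IsPullback (Proj.awayι 𝒜 (φ t) (φ.2 ht) hd) ℓ L (pullback.fst p₁ ι) := by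
      refine IsPullback.of_bot ?_ (pullback.lift_fst _ _ _).symm (IsPullback.of_hasPullback p₁ ι)
      rw [pullback.lift_snd, pullback.lift_fst]
      exact sqMap
    have sqQ := (IsPullback.of_hasPullback p₁ ι).flip.paste_vert (IsPullback.of_hasPullback _ _)
    haveI : IsIso ℓ := by
      have hc := isPullback_chart φ hφA hd ht
      rw [← hstr hd ht] at hc
      have : ℓ = (hc.isoIsPullback _ _ sqQ).hom := by
        refine sqQ.hom_ext ?_ ?_
        · rw [IsPullback.isoIsPullback_hom_fst, pullback.lift_snd]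
        · rw [IsPullback.isoIsPullback_hom_snd, ← Category.assoc, pullback.lift_fst, Category.assoc,
            pullback.lift_snd]
          exact hstr' (s := φ t) hd (φ.2 ht)
      rw [this]; infer_instance
    rw [← sqℓ.isoPullback_inv_snd]
    rw [MorphismProperty.isomorphisms.iff]
    infer_instance
  exact IsPullback.of_iso_pullback ⟨w⟩ (asIso L) (pullback.lift_fst _ _ _) (pullback.lift_snd _ _ _)

end Groth.Agent.Proj16.BaseChange
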