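import Groth.Agent.Proj16.QuotGraded
import Groth.Agent.Proj16.Map
import Groth.Agent.ModPairLib.Coprod
import Groth.Agent.ModPairLib.Basic
import Mathlib.AlgebraicGeometry.Morphisms.ClosedImmersion
import Mathlib.AlgebraicGeometry.ProjectiveSpectrum.Functor

/-!
Closed subschemes of `Proj` are `Proj` of quotients.
-/

universe u

open SetLike DirectSum AlgebraicGeometry HomogeneousIdeal HomogeneousLocalization CategoryTheory
  CategoryTheory.Limits

namespace Groth.Agent.Proj16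

section Kid

variable {R R' : CommRingCat.{u}} {X Z : Scheme.{u}}

/-- The ideal of `R` cut out by an ideal sheaf pulled back to `Spec R`. -/
noncomputable def chartIdeal (J : X.IdealSheafData) (j : Spec R ⟶ X) : Ideal R :=
  ((J.comap j).ideal ⟨⊤, isAffineOpen_top _⟩).comap (Scheme.ΓSpecIso R).inv.hom

lemma chartIdeal_comp (J : X.IdealSheafData) (j : Spec R ⟶ X) (φ : R ⟶ R') :
    chartIdeal J (Spec.map φ ≫ j) = (chartIdeal J j).map φ.hom := by
  have hb := ConcreteCategory.bijective_of_isIso (Scheme.ΓSpecIso R').inv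
  unfold chartIdeal
  rw [Scheme.IdealSheafData.comap_comp, ModPairLib.comap_ideal_affine]
  conv_lhs => rw [← Ideal.map_comap_of_surjective (Scheme.ΓSpecIso R).inv.hom
    (ConcreteCategory.bijective_of_isIso (Scheme.ΓSpecIso R).inv).2
    ((J.comap j).ideal ⟨⊤, isAffineOpen_top _⟩)]
  rw [Ideal.map_map, ← CommRingCat.hom_comp, ← Scheme.ΓSpecIso_inv_naturality, CommRingCat.hom_comp,
    ← Ideal.map_map, Ideal.comap_map_of_bijective _ hb]

lemma comap_eq_of_chartIdeal {J J' : X.IdealSheafData} (j : Spec R ⟶ X)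
    (h : chartIdeal J j = chartIdeal J' j) : J.comap j = J'.comap j :=
  Scheme.IdealSheafData.ext_of_isAffine
    (Ideal.comap_injective_of_surjective _
      (ConcreteCategory.bijective_of_isIso (Scheme.ΓSpecIso R).inv).2 h)

lemma chartIdeal_eq_ker {φ : R ⟶ R'} {b : Spec R' ⟶ Z} (j : Spec R ⟶ X) (h : Z ⟶ X)
    [IsClosedImmersion h] (sq : IsPullback (Spec.map φ) b j h) :
    chartIdeal h.ker j = RingHom.ker φ.hom := by
  have e : h.ker.comap j = (Spec.map φ).ker := by
    rw [← Scheme.IdealSheafData.ker_fst_of_isClosedImmersion h j, ← sq.isoPullback_hom_fst,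
      Scheme.Hom.ker_comp_of_isIso]
  unfold chartIdeal
  rw [e, Scheme.Hom.ker_apply]
  ext x
  rw [Ideal.mem_comap, RingHom.mem_ker, RingHom.mem_ker]
  have hn := congr($(Scheme.ΓSpecIso_inv_naturality φ).hom x)
  simp only [CommRingCat.hom_comp, RingHom.comp_apply] at hn
  change (Spec.map φ).appTop ((Scheme.ΓSpecIso R).inv x) = 0 ↔ _
  rw [← hn]
  exact map_eq_zero_iff _ (ConcreteCategory.bijective_of_isIso (Scheme.ΓSpecIso R').inv).1

end Kid

section Main

variable {R A : Type u} [CommRing R] [CommRing A] [Algebra R A] (𝒜 : ℕ → Submodule R A)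
  [GradedAlgebra 𝒜] {Z : Scheme.{u}} (i : Z ⟶ Proj 𝒜)

/-- The ideal of the closed subscheme on the standard chart at `f`. -/
noncomputable def away1Ideal {f : A} (hf : f ∈ 𝒜 1) : Ideal (Away 𝒜 f) :=
  chartIdeal i.ker (Proj.awayι 𝒜 f hf one_pos)

lemma smul_one_mem {n : ℕ} {a : A} (ha : a ∈ 𝒜 n) : a ∈ 𝒜 (n • 1) := by simpa using ha

/-- The degree-`n` part of the homogeneous ideal of a closed subscheme. -/
def InPart (s : Finset A) (hs1 : ∀ f ∈ s, f ∈ 𝒜 1) (n : ℕ) (a : A) : Prop :=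
  ∀ f (hf : f ∈ s), ∀ ha : a ∈ 𝒜 n,
    Away.mk 𝒜 (hs1 f hf) n a (smul_one_mem 𝒜 ha) ∈ away1Ideal 𝒜 i (hs1 f hf)

variable (s : Finset A) (hs1 : ∀ f ∈ s, f ∈ 𝒜 1)

lemma mk_add {f : A} (hf : f ∈ 𝒜 1) (n : ℕ) (a b : A) (ha : a ∈ 𝒜 n) (hb : b ∈ 𝒜 n) :
    Away.mk 𝒜 hf n (a + b) (smul_one_mem 𝒜 (add_mem ha hb)) =
      Away.mk 𝒜 hf n a (smul_one_mem 𝒜 ha) + Away.mk 𝒜 hf n b (smul_one_mem 𝒜 hb) := by
  apply HomogeneousLocalization.val_injective
  simp only [Away.val_mk, HomogeneousLocalization.val_add, Localization.add_mk_self]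

lemma mk_mul {f : A} (hf : f ∈ 𝒜 1) (m n : ℕ) (c a : A) (hc : c ∈ 𝒜 m) (ha : a ∈ 𝒜 n) :
    Away.mk 𝒜 hf (m + n) (c * a) (smul_one_mem 𝒜 (SetLike.mul_mem_graded hc ha)) =
      Away.mk 𝒜 hf m c (smul_one_mem 𝒜 hc) * Away.mk 𝒜 hf n a (smul_one_mem 𝒜 ha) := by
  apply HomogeneousLocalization.val_injective
  simp only [Away.val_mk, HomogeneousLocalization.val_mul, Localization.mk_mul]
  congr 1
  exact Subtype.ext (pow_add f m n)

lemma mk_zero {f : A} (hf : f ∈ 𝒜 1) (n : ℕ) (h : (0 : A) ∈ 𝒜 (n • 1)) :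
    Away.mk 𝒜 hf n 0 h = 0 := by
  apply HomogeneousLocalization.val_injective
  simp [Away.val_mk, Localization.mk_zero]

/-- The homogeneous ideal of a closed subscheme. -/
noncomputable def subIdeal : Ideal A where
  carrier := {x | ∀ n, InPart 𝒜 i s hs1 n (GradedRing.proj 𝒜 n x)}
  zero_mem' := fun n f hf ha => by
    simp only [map_zero, mk_zero, Ideal.zero_mem]
  add_mem' := fun {x y} hx hy n f hf ha => by
    simp only [map_add]
    rw [mk_add 𝒜 (hs1 f hf) n (GradedRing.proj 𝒜 n x) (GradedRing.proj 𝒜 n y) (SetLike.coe_mem _)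
      (SetLike.coe_mem _)]
    exact add_mem (hx n f hf (SetLike.coe_mem _)) (hy n f hf (SetLike.coe_mem _))
  smul_mem' := fun c x hx => by
    induction c using DirectSum.Decomposition.inductionOn 𝒜 with
    | zero =>
      intro n f hf ha
      simp only [zero_smul, map_zero, mk_zero, Ideal.zero_mem]
    | @homogeneous m c =>
      intro n f hf ha
      by_cases h : m ≤ n
      · obtain ⟨k, rfl⟩ := Nat.exists_eq_add_of_le h
        have e : GradedRing.proj 𝒜 (m + k) ((c : A) • x) = (c : A) * GradedRing.proj 𝒜 k x := by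
          rw [smul_eq_mul, GradedRing.proj_apply, DirectSum.coe_decompose_mul_add_of_left_mem 𝒜 c.2,
            GradedRing.proj_apply]
        simp only [e]
        rw [mk_mul 𝒜 (hs1 f hf) m k (c : A) (GradedRing.proj 𝒜 k x) c.2 (SetLike.coe_mem _)]
        exact Ideal.mul_mem_left _ _ (hx k f hf (SetLike.coe_mem _))
      · have e : GradedRing.proj 𝒜 n ((c : A) • x) = 0 := by
          rw [smul_eq_mul, GradedRing.proj_apply,
            DirectSum.coe_decompose_mul_of_left_mem_of_not_le 𝒜 c.2 h]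
        simp only [e, mk_zero, Ideal.zero_mem]
    | add c d hc hd =>
      intro n f hf ha
      simp only [add_smul, map_add]
      rw [mk_add 𝒜 (hs1 f hf) n (GradedRing.proj 𝒜 n (c • x)) (GradedRing.proj 𝒜 n (d • x))
        (SetLike.coe_mem _) (SetLike.coe_mem _)]
      exact add_mem (hc n f hf (SetLike.coe_mem _)) (hd n f hf (SetLike.coe_mem _))

lemma subIdeal_isHomogeneous : (subIdeal 𝒜 i s hs1).IsHomogeneous 𝒜 := by
  intro n x hx m f hf ha
  by_cases h : m = n
  · subst h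
    have e : GradedRing.proj 𝒜 m (DirectSum.decompose 𝒜 x m : A) = GradedRing.proj 𝒜 m x := by
      simp [GradedRing.proj_apply]
    simp only [e]
    exact hx m f hf (SetLike.coe_mem _)
  · have e : GradedRing.proj 𝒜 m (DirectSum.decompose 𝒜 x n : A) = 0 :=
      proj_of_mem_ne 𝒜 (SetLike.coe_mem _) (Ne.symm h)
    simp only [e, mk_zero, Ideal.zero_mem]

lemma mem_subIdeal_of_mem {n : ℕ} {a : A} (ha : a ∈ 𝒜 n) (h : InPart 𝒜 i s hs1 n a) :
    a ∈ subIdeal 𝒜 i s hs1 := by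
  intro m f hf hb
  by_cases hm : n = m
  · subst hm
    simp only [proj_of_mem 𝒜 ha]
    exact h f hf ha
  · simp only [proj_of_mem_ne 𝒜 ha hm, mk_zero, Ideal.zero_mem]

/-- The chart ideals are compatible on overlaps. -/
lemma away1Ideal_map {f g : A} (hf : f ∈ 𝒜 1) (hg : g ∈ 𝒜 1) :
    chartIdeal i.ker (Proj.awayι 𝒜 (f * g) (SetLike.mul_mem_graded hf hg) two_pos) =
      (away1Ideal 𝒜 i hf).map (awayMap 𝒜 hg rfl) :=
  (congrArg (chartIdeal i.ker) (Proj.SpecMap_awayMap_awayι 𝒜 hf one_pos hg rfl).symm).trans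
    (chartIdeal_comp i.ker _ _)

lemma away1Ideal_map' {f g : A} (hf : f ∈ 𝒜 1) (hg : g ∈ 𝒜 1) :
    chartIdeal i.ker (Proj.awayι 𝒜 (f * g) (SetLike.mul_mem_graded hf hg) two_pos) =
      (away1Ideal 𝒜 i hg).map (awayMap 𝒜 hf (mul_comm f g)) :=
  (congrArg (chartIdeal i.ker) (Proj.SpecMap_awayMap_awayι 𝒜 hg one_pos hf (mul_comm f g)).symm).trans
    (chartIdeal_comp i.ker _ _)

lemma exists_pow_mul_mem {f : A} (hf : f ∈ s) (n : ℕ) {a : A} (ha : a ∈ 𝒜 n)
    (hK : Away.mk 𝒜 (hs1 f hf) n a (smul_one_mem 𝒜 ha) ∈ away1Ideal 𝒜 i (hs1 f hf)) :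
    ∃ k : ℕ, f ^ k * a ∈ subIdeal 𝒜 i s hs1 := by
  classical
  have key : ∀ g : s, ∃ k : ℕ, ∀ k', k ≤ k' →
      Away.mk 𝒜 (hs1 g.1 g.2) (k' + n) (f ^ k' * a) (smul_one_mem 𝒜 (SetLike.mul_mem_graded
        (by simpa using SetLike.pow_mem_graded k' (hs1 f hf)) ha)) ∈ away1Ideal 𝒜 i (hs1 g.1 g.2) := by
    rintro ⟨g, hg⟩
    have hfd := hs1 f hf
    have hgd := hs1 g hg
    set y := Away.mk 𝒜 hgd n a (smul_one_mem 𝒜 ha)
    letI := (awayMap 𝒜 hfd (mul_comm f g)).toAlgebra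
    have hloc := Away.isLocalization_mul hgd hfd (mul_comm f g) one_ne_zero
    set e := Away.isLocalizationElem hgd hfd
    have h1 : awayMap 𝒜 hgd rfl (Away.mk 𝒜 hfd n a (smul_one_mem 𝒜 ha)) ∈
        (away1Ideal 𝒜 i hgd).map (awayMap 𝒜 hfd (mul_comm f g)) := by
      rw [← away1Ideal_map' 𝒜 i hfd hgd, away1Ideal_map 𝒜 i hfd hgd]
      exact Ideal.mem_map_of_mem _ hK
    have h2 : awayMap 𝒜 hfd (mul_comm f g) y =
        awayMap 𝒜 hgd rfl (Away.mk 𝒜 hfd n a (smul_one_mem 𝒜 ha)) *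
          awayMap 𝒜 hfd (mul_comm f g) e ^ n := by
      apply HomogeneousLocalization.val_injective
      simp only [y, e, Away.isLocalizationElem, awayMap_mk, HomogeneousLocalization.val_mul,
        HomogeneousLocalization.val_pow, Away.val_mk, Localization.mk_pow, Localization.mk_mul]
      rw [Localization.mk_eq_mk_iff, Localization.r_iff_exists]
      refine ⟨1, ?_⟩
      simp only [OneMemClass.coe_one, one_mul, Submonoid.coe_mul, SubmonoidClass.coe_pow, pow_one,
        mul_pow]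
      ring
    obtain ⟨⟨_, k, rfl⟩, hk⟩ : ∃ m : Submonoid.powers e, (m : Away 𝒜 g) * y ∈ away1Ideal 𝒜 i hgd := by
      have h3 : algebraMap (Away 𝒜 g) (Away 𝒜 (f * g)) y ∈ (away1Ideal 𝒜 i hgd).map
          (algebraMap (Away 𝒜 g) (Away 𝒜 (f * g))) := by
        rw [RingHom.algebraMap_toAlgebra]
        rw [h2]
        exact Ideal.mul_mem_right _ _ h1
      obtain ⟨m, hm, hmy⟩ := (IsLocalization.algebraMap_mem_map_algebraMap_iff (Submonoid.powers e) _
        _ _).mp h3
      exact ⟨⟨m, hm⟩, hmy⟩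
    refine ⟨k, fun k' hk' => ?_⟩
    obtain ⟨l, rfl⟩ := Nat.exists_eq_add_of_le hk'
    have h4 : Away.mk 𝒜 hgd (k + l + n) (f ^ (k + l) * a) (smul_one_mem 𝒜 (SetLike.mul_mem_graded
        (by simpa using SetLike.pow_mem_graded (k + l) hfd) ha)) = e ^ l * (e ^ k * y) := by
      apply HomogeneousLocalization.val_injective
      simp only [y, e, Away.isLocalizationElem, HomogeneousLocalization.val_mul,
        HomogeneousLocalization.val_pow, Away.val_mk, Localization.mk_pow, Localization.mk_mul]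
      rw [Localization.mk_eq_mk_iff, Localization.r_iff_exists]
      refine ⟨1, ?_⟩
      simp only [OneMemClass.coe_one, one_mul, Submonoid.coe_mul, SubmonoidClass.coe_pow, pow_one,
        pow_add]
      ring
    rw [h4]
    exact Ideal.mul_mem_left _ _ hk
  choose k hk using key
  have hmem : f ^ (Finset.univ.sup k) * a ∈ 𝒜 (Finset.univ.sup k + n) :=
    SetLike.mul_mem_graded (by simpa using SetLike.pow_mem_graded _ (hs1 f hf)) ha
  exact ⟨Finset.univ.sup k, mem_subIdeal_of_mem 𝒜 i s hs1 hmem fun g hg _ =>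
    hk ⟨g, hg⟩ _ (Finset.le_sup (f := k) (Finset.mem_univ _))⟩

include hs1 in
/-- A closed subscheme of `Proj` is `Proj` of a graded quotient algebra. -/
theorem exists_proj_quotient_alg [IsClosedImmersion i]
    (hs : (HomogeneousIdeal.irrelevant 𝒜).toIdeal = Ideal.span (s : Set A)) :
    ∃ (B : Type u) (_ : CommRing B) (_ : Algebra R B) (ℬ : ℕ → Submodule R B) (_ : GradedAlgebra ℬ)
      (φ : 𝒜 →+*ᵍ ℬ) (_ : Function.Surjective φ)
      (hφ : HomogeneousIdeal.irrelevant ℬ ≤ (HomogeneousIdeal.irrelevant 𝒜).map φ)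
      (e : Z ≅ Proj ℬ), e.hom ≫ Proj.map φ hφ = i ∧ ∀ r : R, φ (algebraMap R A r) = algebraMap R B r := by
  set I := subIdeal 𝒜 i s hs1
  letI := quotGradedAlgebra 𝒜 I (subIdeal_isHomogeneous 𝒜 i s hs1)
  let φ : 𝒜 →+*ᵍ quotGrading 𝒜 I :=
    { Ideal.Quotient.mk I with map_mem := fun {_ _} ha => mk_mem_quotGrading 𝒜 I ha }
  have hsurj : Function.Surjective φ := Ideal.Quotient.mk_surjective
  have hφ : HomogeneousIdeal.irrelevant (quotGrading 𝒜 I) ≤
      (HomogeneousIdeal.irrelevant 𝒜).map φ := by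
    rw [HomogeneousIdeal.irrelevant_le]
    rintro n hn _ ⟨a, ha, rfl⟩
    exact Ideal.mem_map_of_mem _ (HomogeneousIdeal.mem_irrelevant_of_mem _ hn ha)
  have := isClosedImmersion_map φ hφ hsurj
  have hker : (Proj.map φ hφ).ker = i.ker := by
    have hcomap : ∀ f : s, (Proj.map φ hφ).ker.comap (Proj.awayι 𝒜 f.1 (hs1 f.1 f.2) one_pos) =
        i.ker.comap (Proj.awayι 𝒜 f.1 (hs1 f.1 f.2) one_pos) := by
      rintro ⟨f, hf⟩
      have sq : IsPullback (Spec.map (CommRingCat.ofHom (Away.map φ f)))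
          (Proj.awayι _ (φ f) (φ.2 (hs1 f hf)) one_pos) (Proj.awayι 𝒜 f (hs1 f hf) one_pos)
          (Proj.map φ hφ) := by
        refine IsOpenImmersion.isPullback _ _ _ _ (Proj.awayι_comp_map φ hφ one_pos _ (hs1 f hf)) ?_
        rw [Proj.opensRange_awayι, Proj.opensRange_awayι, Proj.map_preimage_basicOpen]
      refine comap_eq_of_chartIdeal _ ?_
      rw [chartIdeal_eq_ker _ _ sq]
      show RingHom.ker (Away.map φ f) = away1Ideal 𝒜 i (hs1 f hf)
      ext x
      obtain ⟨n, a, ha, rfl⟩ := x.mk_surjective 𝒜 (hs1 f hf)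
      have ha' : a ∈ 𝒜 n := by simpa using ha
      rw [RingHom.mem_ker, Away.map_mk, ← (HomogeneousLocalization.val_injective _).eq_iff,
        Away.val_mk, HomogeneousLocalization.val_zero, Localization.mk_eq_mk',
        IsLocalization.mk'_eq_zero_iff]
      constructor
      · rintro ⟨⟨_, m, rfl⟩, hm⟩
        have hmI : f ^ m * a ∈ I := by
          rw [← Ideal.Quotient.eq_zero_iff_mem]
          simpa [φ] using hm
        have hmem : f ^ m * a ∈ 𝒜 (m + n) :=
          SetLike.mul_mem_graded (by simpa using SetLike.pow_mem_graded m (hs1 f hf)) ha'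
        have h1 := hmI (m + n)
        simp only [InPart, proj_of_mem 𝒜 hmem] at h1
        have h2 := h1 f hf hmem
        have e : Away.mk 𝒜 (hs1 f hf) n a ha =
            Away.mk 𝒜 (hs1 f hf) (m + n) (f ^ m * a) (smul_one_mem 𝒜 hmem) := by
          apply HomogeneousLocalization.val_injective
          simp only [Away.val_mk]
          rw [Localization.mk_eq_mk_iff, Localization.r_iff_exists]
          exact ⟨1, by simp [pow_add]; ring⟩
        rw [e]
        exact h2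
      · intro hK
        obtain ⟨k, hk⟩ := exists_pow_mul_mem 𝒜 i s hs1 hf n ha' hK
        refine ⟨⟨φ f ^ k, k, rfl⟩, ?_⟩
        show φ f ^ k * φ a = 0
        rw [← map_pow, ← map_mul]
        exact Ideal.Quotient.eq_zero_iff_mem.mpr hk
    have hcov : ∀ y : Proj 𝒜, ∃ (f : s) (z : Spec (.of (Away 𝒜 f.1))),
        Proj.awayι 𝒜 f.1 (hs1 f.1 f.2) one_pos z = y := fun y => by
      obtain ⟨f, hy⟩ := TopologicalSpace.Opens.mem_iSup.mp
        ((Proj.iSup_basicOpen_eq_top 𝒜 (fun f : s => f.1) (by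
          rw [hs, Subtype.range_coe_subtype]; rfl)).ge (Set.mem_univ y))
      rw [← Proj.opensRange_awayι 𝒜 f.1 (hs1 f.1 f.2) one_pos] at hy
      exact ⟨f, hy⟩
    exact le_antisymm (ModPairLib.le_of_comap_le _ hcov fun f => (hcomap f).le)
      (ModPairLib.le_of_comap_le _ hcov fun f => (hcomap f).ge)
  refine ⟨A ⧸ I, inferInstance, inferInstance, quotGrading 𝒜 I, inferInstance, φ, hsurj, hφ,
    @asIso _ _ _ _ (IsClosedImmersion.lift (Proj.map φ hφ) i hker.le)
      (IsClosedImmersion.isIso_lift _ _ hker), ?_, fun _ => rfl⟩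
  exact IsClosedImmersion.lift_fac _ _ _

include hs1 in
/-- A closed subscheme of `Proj` is `Proj` of a graded quotient. -/
theorem exists_proj_quotient [IsClosedImmersion i]
    (hs : (HomogeneousIdeal.irrelevant 𝒜).toIdeal = Ideal.span (s : Set A)) :
    ∃ (B : Type u) (_ : CommRing B) (_ : Algebra R B) (ℬ : ℕ → Submodule R B) (_ : GradedAlgebra ℬ)
      (φ : 𝒜 →+*ᵍ ℬ) (_ : Function.Surjective φ)
      (hφ : HomogeneousIdeal.irrelevant ℬ ≤ (HomogeneousIdeal.irrelevant 𝒜).map φ)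
      (e : Z ≅ Proj ℬ), e.hom ≫ Proj.map φ hφ = i := by
  obtain ⟨B, h1, h2, ℬ, h3, φ, h4, hφ, e, he, -⟩ := exists_proj_quotient_alg 𝒜 i s hs1 hs
  exact ⟨B, h1, h2, ℬ, h3, φ, h4, hφ, e, he⟩

end Main

end Groth.Agent.Proj16
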