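import Mathlib.AlgebraicGeometry.ProjectiveSpectrum.Basic
import Mathlib.AlgebraicGeometry.Morphisms.FiniteType
import Mathlib.AlgebraicGeometry.Morphisms.Affine
import Mathlib.AlgebraicGeometry.ResidueField
import Mathlib.Algebra.Polynomial.Laurent
import Mathlib.Algebra.DirectSum.Ring
import Mathlib.RingTheory.FiniteType

/-!
# Degree one charts of the cones are lines and punctured lines
-/

universe u

open SetLike CategoryTheory CategoryTheory.Limits AlgebraicGeometry HomogeneousLocalization

set_option backward.isDefEq.respectTransparency false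

noncomputable section

namespace Groth.Agent.Proj16

/-- Homomorphisms out of Laurent polynomials are determined by constants and `T`. -/
theorem laurent_ringHom_ext {R S : Type*} [CommRing R] [CommRing S] {f g : LaurentPolynomial R →+* S}
    (hC : ∀ r, f (LaurentPolynomial.C r) = g (LaurentPolynomial.C r))
    (hT : f (LaurentPolynomial.T 1) = g (LaurentPolynomial.T 1)) : f = g := by
  refine IsLocalization.ringHom_ext (Submonoid.powers (Polynomial.X : Polynomial R))
    (Polynomial.ringHom_ext (fun r => ?_) ?_)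
  · simpa [LaurentPolynomial.algebraMap_eq_toLaurent] using hC r
  · simpa [LaurentPolynomial.algebraMap_eq_toLaurent] using hT

/-- Change of coefficients of Laurent polynomials. -/
def laurentMap {R S : Type*} [CommRing R] [CommRing S] (χ : R →+* S) :
    LaurentPolynomial R →+* LaurentPolynomial S :=
  LaurentPolynomial.eval₂ (LaurentPolynomial.C.comp χ) (LaurentPolynomial.isUnit_T 1).unit

theorem laurentMap_C {R S : Type*} [CommRing R] [CommRing S] (χ : R →+* S) (r : R) :
    laurentMap χ (LaurentPolynomial.C r) = LaurentPolynomial.C (χ r) :=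
  LaurentPolynomial.eval₂_C _ _ r

theorem laurentMap_T {R S : Type*} [CommRing R] [CommRing S] (χ : R →+* S) :
    laurentMap χ (LaurentPolynomial.T 1) = LaurentPolynomial.T 1 := by
  rw [laurentMap, LaurentPolynomial.eval₂_T]
  simp

theorem laurentMap_injective {R S : Type*} [CommRing R] [CommRing S] {χ : R →+* S}
    (h : Function.Injective χ) : Function.Injective (laurentMap χ) := by
  have key : ∀ p : Polynomial R, laurentMap χ (Polynomial.toLaurent p) = Polynomial.toLaurent (p.map χ) := by
    intro p
    induction p using Polynomial.induction_on' with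
    | add a b ha hb => rw [map_add, map_add, ha, hb, Polynomial.map_add, map_add]
    | monomial n a =>
        rw [Polynomial.map_monomial, ← Polynomial.C_mul_X_pow_eq_monomial, ← Polynomial.C_mul_X_pow_eq_monomial]
        simp only [map_mul, map_pow, Polynomial.toLaurent_C, Polynomial.toLaurent_X, laurentMap_C, laurentMap_T]
  rw [injective_iff_map_eq_zero]
  intro q hq
  obtain ⟨n, p, hp⟩ := q.exists_T_pow
  have : laurentMap χ (Polynomial.toLaurent p) = 0 := by rw [hp, map_mul, hq, zero_mul]
  rw [key, map_eq_zero_iff _ Polynomial.toLaurent_injective, Polynomial.map_eq_zero_iff h] at this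
  rw [this, map_zero] at hp
  exact ((LaurentPolynomial.isUnit_T (n : ℤ)).mul_left_eq_zero).1 hp.symm

/-- Polynomial rings commute with change of coefficients. -/
theorem isPushout_polynomial {R K : CommRingCat.{u}} (χ : R ⟶ K) :
    IsPushout (CommRingCat.ofHom (Polynomial.C : R →+* Polynomial R)) χ
      (CommRingCat.ofHom (Polynomial.mapRingHom χ.hom)) (CommRingCat.ofHom (Polynomial.C : K →+* Polynomial K)) := by
  refine ⟨⟨CommRingCat.hom_ext (RingHom.ext fun r => Polynomial.map_C _)⟩, ⟨PushoutCocone.IsColimit.mk _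
    (fun s => CommRingCat.ofHom (Polynomial.eval₂RingHom s.inr.hom (s.inl.hom Polynomial.X)))
    (fun s => ?_) (fun s => ?_) (fun s m h1 h2 => ?_)⟩⟩
  · refine CommRingCat.hom_ext (Polynomial.ringHom_ext (fun r => ?_) ?_)
    · have := congr($(s.condition).hom r)
      simp only [CommRingCat.hom_comp, RingHom.comp_apply, CommRingCat.hom_ofHom] at this ⊢
      simpa using this.symm
    · simp
  · exact CommRingCat.hom_ext (RingHom.ext fun r => by simp)
  · refine CommRingCat.hom_ext (Polynomial.ringHom_ext (fun r => ?_) ?_)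
    · have := congr($(h2).hom r)
      simp only [CommRingCat.hom_comp, RingHom.comp_apply, CommRingCat.hom_ofHom] at this ⊢
      simpa using this
    · have := congr($(h1).hom Polynomial.X)
      simp only [CommRingCat.hom_comp, RingHom.comp_apply, CommRingCat.hom_ofHom] at this ⊢
      simpa using this

/-- Laurent polynomial rings commute with change of coefficients. -/
theorem isPushout_laurent {R K : CommRingCat.{u}} (χ : R ⟶ K) :
    IsPushout (CommRingCat.ofHom (LaurentPolynomial.C : R →+* LaurentPolynomial R)) χ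
      (CommRingCat.ofHom (laurentMap χ.hom))
      (CommRingCat.ofHom (LaurentPolynomial.C : K →+* LaurentPolynomial K)) := by
  refine ⟨⟨CommRingCat.hom_ext (RingHom.ext fun r => laurentMap_C _ r)⟩, ⟨PushoutCocone.IsColimit.mk _
    (fun s => CommRingCat.ofHom (LaurentPolynomial.eval₂ s.inr.hom
      ((LaurentPolynomial.isUnit_T 1).map s.inl.hom).unit))
    (fun s => ?_) (fun s => ?_) (fun s m h1 h2 => ?_)⟩⟩
  · refine CommRingCat.hom_ext (laurent_ringHom_ext (fun r => ?_) ?_)
    · have := congr($(s.condition).hom r)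
      simp only [CommRingCat.hom_comp, RingHom.comp_apply, CommRingCat.hom_ofHom] at this ⊢
      rw [laurentMap_C, LaurentPolynomial.eval₂_C]
      exact this.symm
    · simp only [CommRingCat.hom_comp, RingHom.comp_apply, CommRingCat.hom_ofHom]
      rw [laurentMap_T, LaurentPolynomial.eval₂_T]
      simp
  · exact CommRingCat.hom_ext (RingHom.ext fun r => by simp)
  · refine CommRingCat.hom_ext (laurent_ringHom_ext (fun r => ?_) ?_)
    · have := congr($(h2).hom r)
      simp only [CommRingCat.hom_comp, RingHom.comp_apply, CommRingCat.hom_ofHom] at this ⊢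
      rw [LaurentPolynomial.eval₂_C]
      exact this
    · have := congr($(h1).hom (LaurentPolynomial.T 1))
      simp only [CommRingCat.hom_comp, RingHom.comp_apply, CommRingCat.hom_ofHom] at this ⊢
      rw [laurentMap_T] at this
      rw [LaurentPolynomial.eval₂_T]
      simpa using this

/-- A fibre computed on an affine chart. -/
theorem exists_fibre_iso {E X : Scheme.{u}} (π : E ⟶ X) {C D : CommRingCat.{u}} (κ : Spec C ⟶ X)
    (c : Spec D ⟶ E) (ρ : C ⟶ D) (sq : IsPullback c (Spec.map ρ) π κ) {K T : CommRingCat.{u}}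
    (g : Spec K ⟶ X) (χ : C ⟶ K) (hg : Spec.map χ ≫ κ = g) {j : K ⟶ T} {m : D ⟶ T}
    (po : IsPushout ρ χ m j) :
    ∃ e : pullback π g ≅ Spec T, e.hom ≫ Spec.map j = pullback.snd π g := by
  subst hg
  have h : IsPullback (Spec.map m ≫ c) (Spec.map j) π (Spec.map χ ≫ κ) :=
    (isPullback_SpecMap_of_isPushout ρ χ m j po).paste_horiz sq
  exact ⟨h.isoPullback.symm, h.isoPullback_inv_snd⟩

variable {A B σ τ : Type u} [CommRing A] [CommRing B] [SetLike σ A] [AddSubgroupClass σ A] [SetLike τ B]
  [AddSubgroupClass τ B] {𝒜 : ℕ → σ} {ℬ : ℕ → τ} [GradedRing 𝒜] [GradedRing ℬ]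

variable (ψ : 𝒜 →+*ᵍ ℬ) (z : B) (hz : z ∈ ℬ 1)
  (hbij : Function.Bijective (Polynomial.eval₂RingHom (ψ : A →+* B) z))

/-- The standard chart of a polynomial extension over a degree one element. -/
def polyAway {f : A} (hf : f ∈ 𝒜 1) : Polynomial (Away 𝒜 f) →+* Away ℬ (ψ f) :=
  Polynomial.eval₂RingHom (Away.map ψ f) (Away.mk ℬ (ψ.2 hf) 1 z (by simpa using hz))

theorem polyAway_comp_C {f : A} (hf : f ∈ 𝒜 1) :
    (polyAway ψ z hz hf).comp Polynomial.C = Away.map ψ f :=
  RingHom.ext fun r => Polynomial.eval₂_C _ _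

include hbij in
theorem polyAway_bijective {f : A} (hf : f ∈ 𝒜 1) : Function.Bijective (polyAway ψ z hz hf) := by
  classical
  let E := RingEquiv.ofBijective _ hbij
  let X' : Polynomial (Localization.Away f) := Polynomial.C (algebraMap A _ f) * Polynomial.X
  let l0 : B →+* Polynomial (Localization.Away f) :=
    (Polynomial.eval₂RingHom (Polynomial.C.comp (algebraMap A (Localization.Away f))) X').comp E.symm.toRingHom
  have hl0ψ : ∀ a, l0 (ψ a) = Polynomial.C (algebraMap A _ a) := by
    intro a
    have e : E (Polynomial.C a) = ψ a := Polynomial.eval₂_C _ _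
    simp only [l0, RingHom.comp_apply, RingEquiv.toRingHom_eq_coe, RingEquiv.coe_toRingHom]
    rw [← e, RingEquiv.symm_apply_apply]
    simp
  have hl0z : l0 z = X' := by
    have e : E Polynomial.X = z := Polynomial.eval₂_X _ _
    simp only [l0, RingHom.comp_apply, RingEquiv.toRingHom_eq_coe, RingEquiv.coe_toRingHom]
    conv_lhs => rw [← e, RingEquiv.symm_apply_apply]
    simp
  have hu : IsUnit (l0 (ψ f)) := by
    rw [hl0ψ]; exact (IsLocalization.Away.algebraMap_isUnit f).map _
  let Λ : Localization.Away (ψ f) →+* Polynomial (Localization.Away f) := Localization.awayLift l0 (ψ f) hu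
  have hΛ : ∀ (y : B) (n : ℕ) (w), w * l0 (ψ f) ^ n = l0 y →
      Λ (Localization.mk y ⟨ψ f ^ n, n, rfl⟩) = w := by
    intro y n w hw
    rw [Localization.mk_eq_mk']
    refine (IsLocalization.lift_mk'_spec _ _ _ _).2 ?_
    show l0 y = l0 (ψ f ^ n) * w
    rw [map_pow, mul_comm, hw]
  have hcomp : (Λ.comp (algebraMap (Away ℬ (ψ f)) (Localization.Away (ψ f)))).comp (polyAway ψ z hz hf) =
      Polynomial.mapRingHom (algebraMap (Away 𝒜 f) (Localization.Away f)) := by
    refine Polynomial.ringHom_ext (fun r => ?_) ?_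
    · obtain ⟨n, a, ha, rfl⟩ := r.mk_surjective 𝒜 hf
      simp only [RingHom.comp_apply, polyAway, Polynomial.coe_eval₂RingHom, Polynomial.eval₂_C,
        Polynomial.coe_mapRingHom, Polynomial.map_C, Away.map_mk, HomogeneousLocalization.algebraMap_apply,
        Away.val_mk]
      refine hΛ _ _ _ ?_
      rw [hl0ψ, hl0ψ, ← map_pow, ← map_mul, ← map_pow]
      congr 1
      rw [← IsLocalization.mk'_spec (Localization.Away f) a (⟨f ^ n, n, rfl⟩ : Submonoid.powers f),
        ← Localization.mk_eq_mk']
    · simp only [RingHom.comp_apply, polyAway, Polynomial.coe_eval₂RingHom, Polynomial.eval₂_X,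
        Polynomial.coe_mapRingHom, Polynomial.map_X, HomogeneousLocalization.algebraMap_apply, Away.val_mk]
      refine hΛ _ _ _ ?_
      rw [hl0z, hl0ψ, pow_one, mul_comm]
  refine ⟨fun p q h => ?_, fun x => ?_⟩
  · refine Polynomial.map_injective (algebraMap (Away 𝒜 f) (Localization.Away f))
      (HomogeneousLocalization.val_injective (Submonoid.powers f)) ?_
    have h2 := congrArg (Λ.comp (algebraMap (Away ℬ (ψ f)) (Localization.Away (ψ f)))) h
    rw [← RingHom.comp_apply, ← RingHom.comp_apply _ (polyAway ψ z hz hf), hcomp] at h2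
    exact h2
  · obtain ⟨n, y, hy, rfl⟩ := x.mk_surjective ℬ (ψ.2 hf)
    obtain ⟨P, rfl⟩ := hbij.2 y
    set u := Away.mk ℬ (ψ.2 hf) 1 z (by simpa using hz) with hu'
    have hterm : ∀ j ∈ P.support, ∃ q, (polyAway ψ z hz hf q).val =
        Localization.mk (DirectSum.decompose ℬ (ψ (P.coeff j) * z ^ j) n : B)
          (⟨ψ f ^ n, n, rfl⟩ : Submonoid.powers (ψ f)) := by
      intro j _
      have hzj : z ^ j ∈ ℬ j := by simpa using SetLike.pow_mem_graded j hz
      rw [DirectSum.coe_decompose_mul_of_right_mem ℬ n hzj]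
      split_ifs with hjn
      · refine ⟨Polynomial.C (Away.mk 𝒜 hf (n - j) (DirectSum.decompose 𝒜 (P.coeff j) (n - j))
          (by simp)) * Polynomial.X ^ j, ?_⟩
        simp only [map_mul, map_pow, polyAway, Polynomial.coe_eval₂RingHom, Polynomial.eval₂_C, Polynomial.eval₂_X,
          Away.map_mk, HomogeneousLocalization.val_mul, HomogeneousLocalization.val_pow, Away.val_mk,
          Localization.mk_pow, Localization.mk_mul]
        rw [GradedRingHom.map_directSumDecompose]
        congr 1
        refine Subtype.ext ?_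
        simp only [Submonoid.coe_mul, SubmonoidClass.mk_pow, pow_one, ← pow_add]
        rw [Nat.sub_add_cancel hjn]
      · exact ⟨0, by rw [map_zero, HomogeneousLocalization.val_zero, Localization.mk_zero]⟩
    choose q hq using hterm
    refine ⟨∑ j ∈ P.support.attach, q j.1 j.2, HomogeneousLocalization.val_injective _ ?_⟩
    rw [Away.val_mk, map_sum, ← HomogeneousLocalization.algebraMap_apply, map_sum]
    simp only [HomogeneousLocalization.algebraMap_apply, hq]
    rw [← DirectSum.decompose_of_mem_same ℬ (show Polynomial.eval₂RingHom (ψ : A →+* B) z P ∈ ℬ n from by simpa using hy)]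
    conv_rhs => rw [P.as_sum_support, map_sum, DirectSum.decompose_sum, DFinsupp.finsetSum_apply,
      AddSubmonoidClass.coe_finsetSum]
    rw [Localization.mk_sum, ← Finset.sum_attach P.support]
    refine Finset.sum_congr rfl fun j _ => ?_
    rw [Polynomial.coe_eval₂RingHom, Polynomial.eval₂_monomial]
    rfl

/-- A homogeneous piece in Laurent polynomials. -/
def degPiece {f : A} (hf : f ∈ 𝒜 1) (i : ℕ) : 𝒜 i →+ LaurentPolynomial (Away 𝒜 f) :=
  AddMonoidHom.mk' (fun a : 𝒜 i => LaurentPolynomial.C (Away.mk 𝒜 hf i (a : A) (by simp)) *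
      LaurentPolynomial.T (i : ℤ)) fun a b => by
    rw [← add_mul, ← map_add]
    congr 2
    apply HomogeneousLocalization.val_injective
    simp [Localization.add_mk_self]

theorem degPiece_one {f : A} (hf : f ∈ 𝒜 1) : degPiece hf 0 (GradedMonoid.GOne.one (A := fun i => 𝒜 i)) = 1 := by
  simp only [degPiece, AddMonoidHom.mk'_apply, Nat.cast_zero, LaurentPolynomial.T_zero, mul_one]
  rw [← map_one LaurentPolynomial.C]
  congr 1
  apply HomogeneousLocalization.val_injective
  simp [Away.val_mk]

theorem degPiece_mul {f : A} (hf : f ∈ 𝒜 1) {i j : ℕ} (ai : 𝒜 i) (aj : 𝒜 j) :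
    degPiece hf (i + j) (GradedMonoid.GMul.mul (A := fun i => 𝒜 i) ai aj) = degPiece hf i ai * degPiece hf j aj := by
  simp only [degPiece, AddMonoidHom.mk'_apply, Nat.cast_add, LaurentPolynomial.T_add]
  rw [mul_mul_mul_comm, ← map_mul]
  congr 2
  apply HomogeneousLocalization.val_injective
  simp [Away.val_mk, Localization.mk_mul, pow_add]

/-- The homomorphism recording the degree, after dividing by powers of `f`. -/
def degSplit {f : A} (hf : f ∈ 𝒜 1) : A →+* LaurentPolynomial (Away 𝒜 f) :=
  (DirectSum.toSemiring (degPiece hf) (degPiece_one hf) (degPiece_mul hf)).comp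
    (DirectSum.decomposeRingEquiv 𝒜).toRingHom

theorem degSplit_coe {f : A} (hf : f ∈ 𝒜 1) {i : ℕ} {a : A} (ha : a ∈ 𝒜 i) :
    degSplit hf a = LaurentPolynomial.C (Away.mk 𝒜 hf i a (by simpa using ha)) * LaurentPolynomial.T (i : ℤ) := by
  show DirectSum.toSemiring (degPiece hf) (degPiece_one hf) (degPiece_mul hf) (DirectSum.decompose 𝒜 a) = _
  rw [DirectSum.decompose_of_mem 𝒜 ha, DirectSum.toSemiring_of]
  rfl

theorem degSplit_self {f : A} (hf : f ∈ 𝒜 1) : degSplit hf f = LaurentPolynomial.T 1 := by
  rw [degSplit_coe hf hf]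
  have : Away.mk 𝒜 hf 1 f (by simpa using hf) = 1 := by
    apply HomogeneousLocalization.val_injective
    rw [Away.val_mk, HomogeneousLocalization.val_one, Localization.mk_eq_mk']
    exact (IsLocalization.mk'_eq_iff_eq_mul).2 (by simp)
  rw [this, map_one, one_mul, Nat.cast_one]

/-- The chart of the pointed affine cone over a degree one element. -/
def laurentAway {f : A} : LaurentPolynomial (Away 𝒜 f) →+* Localization.Away f :=
  LaurentPolynomial.eval₂ (algebraMap (Away 𝒜 f) (Localization.Away f))
    (IsLocalization.Away.algebraMap_isUnit (S := Localization.Away f) f).unit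

theorem laurentAway_comp_C {f : A} :
    (laurentAway (𝒜 := 𝒜) (f := f)).comp LaurentPolynomial.C = algebraMap (Away 𝒜 f) (Localization.Away f) :=
  RingHom.ext fun r => LaurentPolynomial.eval₂_C _ _ r

theorem laurentAway_bijective {f : A} (hf : f ∈ 𝒜 1) : Function.Bijective (laurentAway (𝒜 := 𝒜) (f := f)) := by
  classical
  have hu : IsUnit (degSplit hf f) := by rw [degSplit_self]; exact LaurentPolynomial.isUnit_T 1
  let Λ : Localization.Away f →+* LaurentPolynomial (Away 𝒜 f) := Localization.awayLift (degSplit hf) f hu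
  have hΛa : ∀ a, Λ (algebraMap A _ a) = degSplit hf a := fun a => IsLocalization.lift_eq _ a
  have hid : Λ.comp laurentAway = RingHom.id _ := by
    refine laurent_ringHom_ext (fun r => ?_) ?_
    · obtain ⟨n, a, ha, rfl⟩ := r.mk_surjective 𝒜 hf
      simp only [RingHom.comp_apply, laurentAway, LaurentPolynomial.eval₂_C, RingHom.id_apply,
        HomogeneousLocalization.algebraMap_apply, Away.val_mk]
      rw [Localization.mk_eq_mk']
      refine (IsLocalization.lift_mk'_spec _ _ _ _).2 ?_
      show degSplit hf a = degSplit hf (f ^ n) * _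
      rw [map_pow, degSplit_self, LaurentPolynomial.T_pow, mul_one, mul_comm,
        degSplit_coe hf (show a ∈ 𝒜 n from by simpa using ha)]
    · simp only [RingHom.comp_apply, laurentAway, LaurentPolynomial.eval₂_T, RingHom.id_apply, zpow_one,
        IsUnit.unit_spec, hΛa, degSplit_self]
  refine ⟨Function.LeftInverse.injective (g := Λ) fun x => congr($hid x), ?_⟩
  intro x
  obtain ⟨a, ⟨_, n, rfl⟩, rfl⟩ := IsLocalization.exists_mk'_eq (Submonoid.powers f) x
  rw [← DirectSum.sum_support_decompose 𝒜 a, ← Localization.mk_eq_mk', Localization.mk_sum]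
  refine Finset.sum_induction _ (· ∈ Set.range (laurentAway (𝒜 := 𝒜) (f := f)))
    (fun x y ⟨x', hx⟩ ⟨y', hy⟩ => ⟨x' + y', by rw [map_add, hx, hy]⟩) ⟨0, map_zero _⟩ fun i _ => ?_
  refine ⟨LaurentPolynomial.C (Away.mk 𝒜 hf i (DirectSum.decompose 𝒜 a i) (by simp)) *
    LaurentPolynomial.T ((i : ℤ) - n), ?_⟩
  simp only [map_mul, laurentAway, LaurentPolynomial.eval₂_C, LaurentPolynomial.eval₂_T,
    HomogeneousLocalization.algebraMap_apply, Away.val_mk]
  set b := (DirectSum.decompose 𝒜 a i : A)
  set w := (IsLocalization.Away.algebraMap_isUnit (S := Localization.Away f) f).unit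
  have hw : (w : Localization.Away f) = algebraMap A _ f := IsUnit.unit_spec _
  rw [zpow_sub, zpow_natCast, zpow_natCast, Units.val_mul, ← mul_assoc, Units.mul_inv_eq_iff_eq_mul]
  simp only [Units.val_pow_eq_pow_val, hw, ← map_pow, Localization.mk_eq_mk']
  rw [IsLocalization.mk'_spec (M := Submonoid.powers f) _ b ⟨f ^ i, i, rfl⟩,
    IsLocalization.mk'_spec (M := Submonoid.powers f) _ b ⟨f ^ n, n, rfl⟩]

/-- Properties of a morphism read on charts which are lines. -/
theorem fibres_of_charts {E X : Scheme.{u}} (π : E ⟶ X) (L : ∀ (C : CommRingCat.{u}), CommRingCat.{u})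
    (iL : ∀ C, C ⟶ L C) (mL : ∀ {C K : CommRingCat.{u}} (χ : C ⟶ K), L C ⟶ L K)
    (poL : ∀ {C K : CommRingCat.{u}} (χ : C ⟶ K), IsPushout (iL C) χ (mL χ) (iL K))
    (ftL : ∀ C, (iL C).hom.FiniteType)
    {I : Type u} (C : I → CommRingCat.{u}) (κ : ∀ i, Spec (C i) ⟶ X) [∀ i, IsOpenImmersion (κ i)]
    (hκ : ∀ x, ∃ i, x ∈ Set.range (κ i))
    (D : I → CommRingCat.{u}) (c : ∀ i, Spec (D i) ⟶ E) (ρ : ∀ i, C i ⟶ D i)
    (hsq : ∀ i, IsPullback (c i) (Spec.map (ρ i)) π (κ i))
    (e : ∀ i, L (C i) ≅ D i) (he : ∀ i, iL (C i) ≫ (e i).hom = ρ i) :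
    LocallyOfFiniteType π ∧ QuasiCompact π ∧ ∀ x : X, ∃ e : pullback π (X.fromSpecResidueField x) ≅
      Spec (L (X.residueField x)), e.hom ≫ Spec.map (iL (X.residueField x)) = pullback.snd π (X.fromSpecResidueField x) := by
  let 𝒰 : X.OpenCover := Scheme.Cover.mkOfCovers I (fun i => Spec (C i)) κ
    (fun x => by obtain ⟨i, hi⟩ := hκ x; exact ⟨i, hi⟩) (fun i => inferInstance)
  have hloc : ∀ (P : MorphismProperty Scheme.{u}) [IsZariskiLocalAtTarget P],
      (∀ i, P (Spec.map (ρ i))) → P π := by
    intro P _ h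
    refine IsZariskiLocalAtTarget.of_openCover 𝒰 fun i => ?_
    change P (pullback.snd π (κ i))
    rw [← (hsq i).isoPullback_inv_snd]
    exact (MorphismProperty.cancel_left_of_respectsIso P _ _).mpr (h i)
  refine ⟨hloc @LocallyOfFiniteType fun i => ?_, ?_, fun x => ?_⟩
  · rw [HasRingHomProperty.Spec_iff (P := @LocallyOfFiniteType), ← he i, CommRingCat.hom_comp]
    exact ((RingHom.FiniteType.of_surjective _ (ConcreteCategory.bijective_of_isIso (e i).hom).2)).comp (ftL _)
  · haveI : IsAffineHom π := hloc @IsAffineHom fun i => inferInstance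
    infer_instance
  · obtain ⟨i, hi⟩ := hκ x
    have hrange : Set.range (X.fromSpecResidueField x) ⊆ Set.range (κ i) := by
      rw [Scheme.range_fromSpecResidueField, Set.singleton_subset_iff]; exact hi
    obtain ⟨χ, hχ⟩ := Spec.map_surjective (IsOpenImmersion.lift (κ i) (X.fromSpecResidueField x) hrange)
    have po : IsPushout (ρ i) χ ((e i).inv ≫ mL χ) (iL (X.residueField x)) :=
      (poL χ).of_iso (Iso.refl _) (e i) (Iso.refl _) (Iso.refl _) (by simp [he i]) (by simp) (by simp) (by simp)
    exact exists_fibre_iso π (κ i) (c i) (ρ i) (hsq i) _ χ (by rw [hχ, IsOpenImmersion.lift_fac]) po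

theorem finiteType_polynomial (C : CommRingCat.{u}) :
    (CommRingCat.ofHom (Polynomial.C : C →+* Polynomial C)).hom.FiniteType :=
  (RingHom.finiteType_algebraMap (A := C) (B := Polynomial C)).2 inferInstance

theorem finiteType_laurent (C : CommRingCat.{u}) :
    (CommRingCat.ofHom (LaurentPolynomial.C : C →+* LaurentPolynomial C)).hom.FiniteType := by
  haveI : Algebra.FiniteType C (LaurentPolynomial C) :=
    inferInstanceAs (Algebra.FiniteType C (AddMonoidAlgebra C ℤ))
  exact (RingHom.finiteType_algebraMap (A := C) (B := LaurentPolynomial C)).2 inferInstance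

end Groth.Agent.Proj16
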