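import Groth.Agent.Proj16.ConeData

/-!
# Points of the retraction of the pointed affine cone
-/

universe u

open SetLike AlgebraicGeometry HomogeneousLocalization CategoryTheory CategoryTheory.Limits
open scoped HomogeneousIdeal

namespace Groth.Agent.Proj16

variable {R A : Type u} [CommRing R] [CommRing A] [Algebra R A] (𝒜 : ℕ → Submodule R A) [GradedAlgebra 𝒜]

lemma coneData_preimage {d : ℕ} {f : A} (hf : f ∈ 𝒜 d) (hd : 0 < d) :
    (coneData 𝒜).map ⁻¹ᵁ Proj.basicOpen 𝒜 f = ((coneData 𝒜).chart hf hd).opensRange := by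
  refine ToProjData.preimage_basicOpen _ (fun {d e f g} hf hd hg he z hz ↦ ?_) hf hd
  refine (cone_range_chart 𝒜 hf hd).ge ?_
  change f ∉ ((Cone.pointed 𝒜).ι (Cone.chart hg he z)).asIdeal
  have hpt : (Cone.pointed 𝒜).ι (Cone.chart hg he z) =
      Spec.map (CommRingCat.ofHom (algebraMap A (Localization.Away g))) z := by
    rw [← Scheme.Hom.comp_apply, Cone.chart, IsOpenImmersion.lift_fac]
  rw [hpt]
  intro hfz
  refine hz ?_
  change algebraMap (Away 𝒜 g) (Localization.Away g) (Away.isLocalizationElem hg hf) ∈ z.asIdeal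
  rw [HomogeneousLocalization.algebraMap_apply, Away.val_mk, Localization.mk_eq_mk',
    IsLocalization.mk'_eq_mul_mk'_one, map_pow]
  exact Ideal.mul_mem_right _ _ (Ideal.pow_mem_of_mem z.asIdeal hfz _ he)

lemma mem_cone_map_iff (p : (Cone.pointed 𝒜 : Scheme.{u})) {d : ℕ} {a : A} (ha : a ∈ 𝒜 d) :
    a ∈ ((coneData 𝒜).map p).asHomogeneousIdeal ↔ a ∈ ((Cone.pointed 𝒜).ι p).asIdeal := by
  have pos : ∀ {e : ℕ} {g : A}, g ∈ 𝒜 e → 0 < e →
      (g ∈ ((coneData 𝒜).map p).asHomogeneousIdeal ↔ g ∈ ((Cone.pointed 𝒜).ι p).asIdeal) := by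
    intro e g hg he
    refine not_iff_not.1 ?_
    have h1 : (p ∈ (coneData 𝒜).map ⁻¹ᵁ Proj.basicOpen 𝒜 g) ↔
        g ∉ ((Cone.pointed 𝒜).ι p).asIdeal := by
      rw [coneData_preimage 𝒜 hg he]
      exact Set.ext_iff.1 (cone_range_chart 𝒜 hg he) p
    exact h1
  rcases Nat.eq_zero_or_pos d with rfl | hd
  · obtain ⟨e, g, he, hg, hgp⟩ := exists_homogeneous_notMem 𝒜
      (I := ((Cone.pointed 𝒜).ι p).asIdeal) fun h ↦ p.2 h
    have hg' : g ∉ ((coneData 𝒜).map p).asHomogeneousIdeal := fun h ↦ hgp ((pos hg he).1 h)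
    have hag : a * g ∈ 𝒜 (0 + e) := SetLike.mul_mem_graded ha hg
    rw [zero_add] at hag
    constructor
    · intro h
      exact (((Cone.pointed 𝒜).ι p).isPrime.mem_or_mem
        ((pos hag he).1 (Ideal.mul_mem_right g _ h))).resolve_right hgp
    · intro h
      exact (((coneData 𝒜).map p).isPrime.mem_or_mem
        ((pos hag he).2 (Ideal.mul_mem_right g _ h))).resolve_right hg'
  · exact pos ha hd

lemma asHomogeneousIdeal_cone_map (p : (Cone.pointed 𝒜 : Scheme.{u})) :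
    ((coneData 𝒜).map p).asHomogeneousIdeal =
      ((Cone.pointed 𝒜).ι p).asIdeal.homogeneousCore 𝒜 := by
  classical
  refine le_antisymm (fun x hx ↦ ?_) (fun x hx ↦ ?_)
  · rw [← DirectSum.sum_support_decompose 𝒜 x]
    refine Ideal.sum_mem _ fun i _ ↦ ?_
    exact Ideal.mem_homogeneousCore_of_homogeneous_of_mem ⟨i, SetLike.coe_mem _⟩
      ((mem_cone_map_iff 𝒜 p (SetLike.coe_mem _)).1 (((coneData 𝒜).map p).asHomogeneousIdeal.2 i hx))
  · rw [← DirectSum.sum_support_decompose 𝒜 x]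
    refine Ideal.sum_mem _ fun i _ ↦ (mem_cone_map_iff 𝒜 p (SetLike.coe_mem _)).2 ?_
    exact Ideal.toIdeal_homogeneousCore_le 𝒜 _ ((Ideal.homogeneousCore 𝒜 _).2 i hx)

lemma surjective_cone_map : Surjective (coneData 𝒜).map := by
  refine ⟨fun x ↦ ?_⟩
  refine ⟨⟨(⟨x.asHomogeneousIdeal.toIdeal, x.isPrime⟩ : PrimeSpectrum A), x.not_irrelevant_le⟩, ?_⟩
  refine ProjectiveSpectrum.ext ?_
  rw [asHomogeneousIdeal_cone_map]
  exact HomogeneousIdeal.toIdeal_homogeneousCore_eq_self x.asHomogeneousIdeal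

end Groth.Agent.Proj16
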